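import Cfsg.Agent.H488.PQ.Tools
import Cfsg.Agent.H894.PQ.Tools
import Cfsg.Agent.S4499
import Cfsg.Agent.S4491
import Cfsg.Agent.S4483

/-!
# S4612: the height test (helper488)

* `not_mem_height` : `q ^ b ∣ χ(1)`, `b ≠ 0`, `q ^ (b + 2) ∤ |G|`: `χ` is not in the principal `q`-block (S4499: a block
  with a degree divisible by `q ^ (a - 1)` has only such degrees);
* `kill_height` : `NB p a G` and such a character of degree not divisible by `p ^ a`: not `Same p q G`;
* `real_mem` : the real characters of odd degree are in the principal 2-block (S4483);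
* `kill_real` : a real irreducible character of odd degree divisible by `q ^ b`, `q ^ (b + 2) ∤ |G|`: not `Same 2 q G`;
* `sq_fac` : the `p`-part of `∑ χ(1) ^ 2` over the principal `p`-block is the one of `|G|` (S4491).
-/

set_option autoImplicit false

open Cfsg Cfsg.Agent

namespace Cfsg.Agent.H488.PQ

open Cfsg.Agent.H317.PQ Cfsg.Agent.Blocks.Basic Cfsg.Agent.Blocks.Local Cfsg.Agent.H709.PB

universe u

variable {p q : ℕ} {G : Type u} [Group G] [Finite G]

/-- **The height test.** -/
theorem not_mem_height {b : ℕ} (hq : q.Prime) (hb : b ≠ 0) {χ : IrrCharacter G}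
    (hqd : q ^ b ∣ charDegree (χ : G → ℂ)) (hG : ¬ q ^ (b + 2) ∣ Nat.card G) : χ ∉ B0 q G := by
  intro h
  have hqF : Fact q.Prime := ⟨hq⟩
  obtain ⟨M, hM⟩ := Blocks.ExistsModular.exists_isPModular hq
  have hMp : M.IsPrime := isPrime_of_isPModular hM
  obtain ⟨ε, hε⟩ := exists_triv G
  have h1 : χ ∈ principalBlock M G := by rwa [B0_eq hq hM] at h
  have h2 : ε ∈ principalBlock M G := by
    have h3 := triv_mem hq hε
    rwa [B0_eq hq hM] at h3
  have hdvd : charDegree (χ : G → ℂ) ∣ Nat.card G := Blocks.Knorr.charDegree_dvd χ.2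
  have hqG : q ∣ Nat.card G := (dvd_pow_self q hb).trans (hqd.trans hdvd)
  have h4 : (Nat.card G).factorization q ≤ b + 1 := by
    by_contra h5
    exact hG ((hq.pow_dvd_iff_le_factorization Nat.card_pos.ne').2 (by omega))
  by_cases h5 : (Nat.card G).factorization q = 1
  · -- Sylow subgroups of prime order: defect zero
    refine not_mem_of_dvd (b := 1) hq one_ne_zero (by rw [pow_one]; exact (dvd_pow_self q hb).trans hqd) ?_ h
    intro h6
    have h7 := (hq.pow_dvd_iff_le_factorization Nat.card_pos.ne').1 h6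
    omega
  · have h6 : 1 ≤ (Nat.card G).factorization q := (hq.dvd_iff_one_le_factorization Nat.card_pos.ne').1 hqG
    have h7 := Cfsg.Agent.S4499.result q M hM hqG (principalBlock M G)
      Cfsg.Agent.Blocks.PrincipalSection.isPBlock_principalBlock χ h1
      ((pow_dvd_pow q (by omega)).trans hqd) ε h2
    rw [deg_triv hε] at h7
    have h8 : q ∣ 1 := (dvd_pow_self q (by omega)).trans h7
    exact hq.one_lt.ne' (Nat.dvd_one.1 h8)

/-- `NB p a G` and a character of large `q`-part. -/
theorem kill_height {a b d : ℕ} (hp : p.Prime) (hq : q.Prime) (h : NB p a G) {χ : IrrCharacter G}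
    (hd : charDegree (χ : G → ℂ) = d) (h1 : ¬ p ^ a ∣ d) (hb : b ≠ 0) (hqd : q ^ b ∣ d)
    (hG : ¬ q ^ (b + 2) ∣ Nat.card G) : ¬ Same p q G := by
  intro hS
  have hpF : Fact p.Prime := ⟨hp⟩
  obtain ⟨M, hM⟩ := Blocks.ExistsModular.exists_isPModular hp
  have h2 : χ ∈ B0 p G := by
    rw [B0_eq hp hM]
    by_contra h3
    exact h1 (hd ▸ h M hM χ h3)
  have h4 : B0 p G = B0 q G := hS
  rw [h4] at h2
  exact not_mem_height hq hb (by rw [hd]; exact hqd) hG h2

/-- The real characters of odd degree are in the principal 2-block. -/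
theorem real_mem {χ : IrrCharacter G} (hr : ∀ g : G, ((χ : G → ℂ) g).im = 0) (ho : Odd (charDegree (χ : G → ℂ))) :
    χ ∈ B0 2 G := by
  obtain ⟨M, hM⟩ := Blocks.ExistsModular.exists_isPModular Nat.prime_two
  rw [B0_eq Nat.prime_two hM]
  exact (Cfsg.Agent.S4483.result M hM).1 χ hr ho

theorem kill_real {b d : ℕ} (hq : q.Prime) {χ : IrrCharacter G} (hr : ∀ g : G, ((χ : G → ℂ) g).im = 0)
    (hd : charDegree (χ : G → ℂ) = d) (ho : Odd d) (hb : b ≠ 0) (hqd : q ^ b ∣ d)
    (hG : ¬ q ^ (b + 2) ∣ Nat.card G) : ¬ Same 2 q G := by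
  intro hS
  have h2 : χ ∈ B0 2 G := real_mem hr (by rw [hd]; exact ho)
  have h4 : B0 2 G = B0 q G := hS
  rw [h4] at h2
  exact not_mem_height hq hb (by rw [hd]; exact hqd) hG h2

/-- The `p`-part of the dimension of the principal block. -/
theorem sq_fac (hp : p.Prime) :
    (∑ᶠ χ ∈ B0 p G, charDegree (χ : G → ℂ) ^ 2).factorization p = (Nat.card G).factorization p := by
  have hpF : Fact p.Prime := ⟨hp⟩
  obtain ⟨M, hM⟩ := Blocks.ExistsModular.exists_isPModular hp
  have hMp : M.IsPrime := isPrime_of_isPModular hM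
  obtain ⟨ε, hε⟩ := exists_triv G
  have h2 : ε ∈ principalBlock M G := by
    have h3 := triv_mem hp hε
    rwa [B0_eq hp hM] at h3
  rw [B0_eq hp hM, Cfsg.Agent.S4491.result p M hM _ Cfsg.Agent.Blocks.PrincipalSection.isPBlock_principalBlock,
    Cfsg.Agent.H646.DefectBasic.blockDefect_eq_of_degree (p := p) h2 (by rw [deg_triv hε]; exact hp.one_lt.ne' ∘ Nat.dvd_one.1)]
  omega

end Cfsg.Agent.H488.PQ
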