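import Cfsg.Agent.H329.PQ.Trace
import Cfsg.Agent.H766.PQ.A01
import Cfsg.Agent.H792.PQ.A3a
import Cfsg.Agent.H358.A3.Normal
import Cfsg.Agent.H642.PQ.Full

/-!
# S4612: tools for the rows of `Co₁`, `Co₂` (helper488)

* `trace_three`, `trace_four` : the trace test for a multiplicity free permutation character with three / four
  constituents of different degrees.
* `not_PQ` : an irreducible character of `K` of `p`-defect zero and of degree prime to `q`, a `q`-subgroup of `K` whose
  centralizer is a `q`-group: `PQ p q K` fails; `pq_sub` : `PQ` for normal subgroups of centralizers;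
* `deg_mod` : the degrees of the characters of the principal `p`-block are `± 1` modulo `p`, if `p` exactly divides the
  order and the elements of order `p` are conjugate.
-/

set_option autoImplicit false

open Cfsg Cfsg.Agent

namespace Cfsg.Agent.H488.PQ

open Cfsg.Agent.H317.PQ Cfsg.Agent.Blocks.Basic Cfsg.Agent.Blocks.Local Cfsg.Agent.H329.PQ
open scoped Classical in
/-- the part of the degree in the principal block -/
noncomputable def dB {G : Type*} [Group G] (p : ℕ) (χ : IrrCharacter G) : ℕ :=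
  if χ ∈ B0 p G then charDegree (χ : G → ℂ) else 0

universe u v

variable {p q : ℕ} {G : Type u} [Group G]

theorem dB_pos {χ : IrrCharacter G} (h : χ ∈ B0 p G) : dB p χ = charDegree (χ : G → ℂ) := by
  unfold dB
  rw [if_pos h]

theorem dB_neg {χ : IrrCharacter G} (h : χ ∉ B0 p G) : dB p χ = 0 := by
  unfold dB
  rw [if_neg h]

theorem triv_mem [Finite G] (hp : p.Prime) {χ : IrrCharacter G} (h : (χ : G → ℂ) = 1) : χ ∈ B0 p G := by
  have : Fact p.Prime := ⟨hp⟩
  obtain ⟨M, hM⟩ := Blocks.ExistsModular.exists_isPModular hp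
  have hMp : M.IsPrime := isPrime_of_isPModular hM
  rw [B0_eq hp hM]
  have h1 : χ = ⟨_, isIrrCharacter_one⟩ := Subtype.ext h
  rw [h1]
  exact sameBlock_refl _

theorem trace_fin [Finite G] (hp : p.Prime) {X : Type v} [MulAction G X] [Finite X] [MulAction.IsPretransitive G X]
    {r : ℕ} {χ : Fin r → IrrCharacter G} (hX : MF G X χ) :
    (∀ k : ℕ, p ^ k ∣ Nat.card X → p ^ k ∣ ∑ i, dB p (χ i)) ∧ (¬ p ∣ Nat.card X → ¬ p ∣ ∑ i, dB p (χ i)) := by
  classical
  have h := trace_test hp hX (Finset.univ.filter fun i => χ i ∈ B0 p G) (fun i => by simp)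
  have h1 : ∑ i ∈ (Finset.univ.filter fun i => χ i ∈ B0 p G), charDegree (χ i : G → ℂ) = ∑ i, dB p (χ i) := by
    rw [Finset.sum_filter]
    refine Finset.sum_congr rfl fun i _ => ?_
    by_cases hi : χ i ∈ B0 p G
    · rw [if_pos hi, dB_pos hi]
    · rw [if_neg hi, dB_neg hi]
  rw [h1] at h
  exact h

/-- the trivial character of `G` -/
theorem exists_triv (G : Type u) [Group G] [Finite G] : ∃ ε : IrrCharacter G, (ε : G → ℂ) = 1 :=
  ⟨⟨_, isIrrCharacter_one⟩, rfl⟩

theorem ne_of_deg {χ ψ : IrrCharacter G} (h : charDegree (χ : G → ℂ) ≠ charDegree (ψ : G → ℂ)) : χ ≠ ψ := by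
  rintro rfl
  exact h rfl

theorem deg_triv {ε : IrrCharacter G} (h : (ε : G → ℂ) = 1) : charDegree (ε : G → ℂ) = 1 :=
  charDegree_of_eq (by rw [h]; simp)

/-- The trace test, three constituents. -/
theorem trace_three [Finite G] (hp : p.Prime) {X : Type v} [MulAction G X] [Finite X] [MulAction.IsPretransitive G X]
    {α β : IrrCharacter G}
    (h : ∀ g : G, (Nat.card (MulAction.fixedBy X g) : ℂ) = 1 + (α : G → ℂ) g + (β : G → ℂ) g)
    (hα : 1 < charDegree (α : G → ℂ)) (hβ : charDegree (α : G → ℂ) < charDegree (β : G → ℂ)) :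
    (∀ k : ℕ, p ^ k ∣ Nat.card X → p ^ k ∣ 1 + dB p α + dB p β) ∧
      (¬ p ∣ Nat.card X → ¬ p ∣ 1 + dB p α + dB p β) := by
  obtain ⟨ε, hε⟩ := exists_triv G
  have hε1 := deg_triv hε
  have hMF : MF G X ![ε, α, β] := by
    constructor
    · intro i j hij
      fin_cases i <;> fin_cases j <;> simp at hij ⊢ <;>
        exact absurd hij (ne_of_deg (by omega))
    · intro g
      rw [h g, Fin.sum_univ_three]
      simp [hε]
  have h1 := trace_fin hp hMF
  rw [Fin.sum_univ_three] at h1
  simp only [Matrix.cons_val_zero, Matrix.cons_val_one, Matrix.cons_val_two, Matrix.head_cons, Matrix.tail_cons,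
    dB_pos (triv_mem hp hε), hε1] at h1
  exact h1

/-- The trace test, four constituents. -/
theorem trace_four [Finite G] (hp : p.Prime) {X : Type v} [MulAction G X] [Finite X] [MulAction.IsPretransitive G X]
    {α β γ : IrrCharacter G}
    (h : ∀ g : G, (Nat.card (MulAction.fixedBy X g) : ℂ) = 1 + (α : G → ℂ) g + (β : G → ℂ) g + (γ : G → ℂ) g)
    (hα : 1 < charDegree (α : G → ℂ)) (hβ : charDegree (α : G → ℂ) < charDegree (β : G → ℂ))
    (hγ : charDegree (β : G → ℂ) < charDegree (γ : G → ℂ)) :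
    (∀ k : ℕ, p ^ k ∣ Nat.card X → p ^ k ∣ 1 + dB p α + dB p β + dB p γ) ∧
      (¬ p ∣ Nat.card X → ¬ p ∣ 1 + dB p α + dB p β + dB p γ) := by
  obtain ⟨ε, hε⟩ := exists_triv G
  have hε1 := deg_triv hε
  have hMF : MF G X ![ε, α, β, γ] := by
    constructor
    · intro i j hij
      fin_cases i <;> fin_cases j <;> simp at hij ⊢ <;>
        exact absurd hij (ne_of_deg (by omega))
    · intro g
      rw [h g, Fin.sum_univ_four]
      simp [hε]
  have h1 := trace_fin hp hMF
  rw [Fin.sum_univ_four] at h1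
  simp only [Matrix.cons_val_zero, Matrix.cons_val_one, Matrix.cons_val_two, Matrix.cons_val_three, Matrix.head_cons,
    Matrix.tail_cons, dB_pos (triv_mem hp hε), hε1] at h1
  exact h1

open Cfsg.Agent.H358.A3

variable {K : Type u} [Group K]

/-- A character with a degree divisible by the full `q`-part of the order is not in the principal block. -/
theorem not_mem_of_dvd [Finite K] {b : ℕ} (hq : q.Prime) (hb : b ≠ 0) {χ : IrrCharacter K}
    (hqd : q ^ b ∣ charDegree (χ : K → ℂ)) (hG' : ¬ q ^ (b + 1) ∣ Nat.card K) : χ ∉ B0 q K := by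
  intro h3
  have hG0 : Nat.card K ≠ 0 := Nat.card_pos.ne'
  have hdvd : charDegree (χ : K → ℂ) ∣ Nat.card K := Cfsg.Agent.Blocks.Knorr.charDegree_dvd χ.2
  have h4 := H766.PQ.not_defect_zero hq ((dvd_pow_self q hb).trans (hqd.trans hdvd)) h3
  have h5 : (Nat.card K).factorization q < b + 1 := by
    by_contra h6
    exact hG' ((hq.pow_dvd_iff_le_factorization hG0).2 (by omega))
  have hd0 : charDegree (χ : K → ℂ) ≠ 0 := fun h => hG0 (by rw [h] at hdvd; exact Nat.eq_zero_of_zero_dvd hdvd)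
  have h6 := (hq.pow_dvd_iff_le_factorization hd0).1 hqd
  omega

/-- `PQ p q K` : the principal `q`-block is contained in the principal `p`-block. -/
theorem mem_of_mem [Finite K] (hp : p.Prime) (hq : q.Prime) (h : PQ p q K) {χ : IrrCharacter K} (hχ : χ ∈ B0 q K) :
    χ ∈ B0 p K := by
  obtain ⟨M, hM⟩ := Blocks.ExistsModular.exists_isPModular hq
  obtain ⟨ε, hε⟩ := exists_triv K
  have h1 : χ ∈ principalBlock M K := by rwa [B0_eq hq hM] at hχ
  refine h M hM ε χ ?_ (triv_mem hp hε)
  have h2 : (ε : K → ℂ) = fun _ => 1 := hε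
  rw [h2]
  exact h1

theorem not_PQ [Finite K] (hp : p.Prime) (hq : q.Prime) {U : Subgroup K} (hU : IsPGroup q U)
    (hC : IsPGroup q (Subgroup.centralizer (U : Set K))) {χ : IrrCharacter K} {b : ℕ}
    (hχ : ¬ q ∣ charDegree (χ : K → ℂ)) (hb : b ≠ 0) (hd : p ^ b ∣ charDegree (χ : K → ℂ))
    (hK : ¬ p ^ (b + 1) ∣ Nat.card K) : ¬ PQ p q K := fun h =>
  not_mem_of_dvd hp hb hd hK (mem_of_mem hp hq h (H642.PQ.mem_full hq hU hC χ hχ))

/-- a commuting set `S` such that all elements commuting with `S` have order 1 or `p` -/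
theorem mem_of_set [Finite K] (hp : p.Prime) {S : Set K} (hc : ∀ a ∈ S, ∀ b ∈ S, a * b = b * a)
    (h : ∀ c : K, (∀ s ∈ S, s * c = c * s) → c ^ p = 1) (χ : IrrCharacter K) (hχ : ¬ p ∣ charDegree (χ : K → ℂ)) :
    χ ∈ B0 p K := by
  have h1 : IsPGroup p (Subgroup.centralizer ((Subgroup.closure S : Subgroup K) : Set K)) := by
    intro c
    refine ⟨1, Subtype.ext ?_⟩
    rw [pow_one]
    exact h c fun s hs => Subgroup.mem_centralizer_iff.1 c.2 s (Subgroup.subset_closure hs)
  refine H642.PQ.mem_full hp (U := Subgroup.closure S) (h1.to_le ?_) h1 χ hχ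
  rw [Subgroup.closure_le]
  intro a ha
  rw [SetLike.mem_coe, Subgroup.centralizer_closure, Subgroup.mem_centralizer_iff]
  exact fun b hb => hc b hb a ha

/-- `PQ p q` passes to normal subgroups of the centralizer of a `p`-element. -/
theorem pq_sub [Finite K] (hp : p.Prime) (hq : q.Prime) (hpq : p ≠ q) (h : PQ p q K) {x : K}
    (hx : ∃ k : ℕ, orderOf x = p ^ k) {L : Subgroup K} (hL : ∀ l ∈ L, l * x = x * l)
    (hn : ∀ c, c * x = x * c → ∀ l ∈ L, c * l * c⁻¹ ∈ L) : PQ p q L := by
  have hle : L ≤ Subgroup.centralizer ({x} : Set K) := fun l hl =>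
    Subgroup.mem_centralizer_singleton_iff.2 (hL l hl)
  have h1 := PQ.centralizer hp hq hpq h hx
  have hN : (L.subgroupOf (Subgroup.centralizer ({x} : Set K))).Normal := by
    constructor
    intro n hn' c
    rw [Subgroup.mem_subgroupOf] at hn' ⊢
    exact hn c (Subgroup.mem_centralizer_singleton_iff.1 c.2) n hn'
  have h2 := PQ.normal hp hq hpq h1 (L.subgroupOf (Subgroup.centralizer ({x} : Set K)))
  exact PQ.of_equiv (Subgroup.subgroupOfEquivOfLe hle) h2

/-- `|N(P) : C(P)| = p - 1` if all elements of order `p` are conjugate. -/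
theorem relIndex_of_conj {G : Type*} [Group G] [Finite G] {p : ℕ} [hp : Fact p.Prime] (P : Sylow p G)
    (hP : Nat.card P = p) (h : ∀ x y : G, orderOf x = p → orderOf y = p → IsConj x y) :
    (Subgroup.centralizer ((P : Subgroup G) : Set G)).relIndex (Subgroup.normalizer ((P : Subgroup G) : Set G)) =
      p - 1 := by
  classical
  have hord : ∀ y : G, y ∈ P → y ≠ 1 → orderOf y = p := by
    intro y hy hy1
    have h1 : orderOf (⟨y, hy⟩ : (P : Subgroup G)) ∣ Nat.card (P : Subgroup G) := orderOf_dvd_natCard _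
    rw [Subgroup.orderOf_mk, hP] at h1
    rcases (Nat.dvd_prime hp.out).1 h1 with h2 | h2
    · exact absurd (orderOf_eq_one_iff.1 h2) hy1
    · exact h2
  obtain ⟨x, hx⟩ : ∃ x : P, x ≠ 1 := by
    have : Nontrivial P := by
      rw [← Finite.one_lt_card_iff_nontrivial]
      have h0 : Nat.card P = p := hP
      rw [h0]
      exact hp.out.one_lt
    exact exists_ne 1
  have hx1 : (x : G) ≠ 1 := fun h1 => hx (Subtype.ext h1)
  rw [← Cfsg.Agent.Blocks.CyclicClasses.card_conj_mem P hP x.2 hx1]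
  have h2 : Nat.card {y : G // y ∈ P ∧ IsConj (x : G) y} = Nat.card {y : P // y ≠ 1} := by
    refine Nat.card_congr ⟨fun y => ⟨⟨y.1, y.2.1⟩, fun h1 => ?_⟩, fun y => ⟨y.1.1, y.1.2, ?_⟩, fun y => rfl, fun y => rfl⟩
    · have h3 : y.1 = 1 := congrArg Subtype.val h1
      have h4 := y.2.2
      rw [h3] at h4
      obtain ⟨c, hc⟩ := isConj_iff.1 h4
      apply hx1
      calc (x : G) = c⁻¹ * (c * x * c⁻¹) * c := by group
        _ = 1 := by rw [hc]; group
    · exact h x y.1 (hord _ x.2 hx1) (hord _ y.1.2 fun h1 => y.2 (Subtype.ext h1))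
  rw [h2]
  have := Fintype.ofFinite P
  have h0 : Nat.card P = p := hP
  rw [Nat.card_eq_fintype_card, Fintype.card_subtype_compl, Fintype.card_subtype_eq, ← Nat.card_eq_fintype_card]
  exact congrArg (fun n => n - 1) h0

/-- The degrees of the characters of the principal `p`-block are `± 1` modulo `p`, if `p` exactly divides the order and
the elements of order `p` are conjugate. -/
theorem deg_mod {G : Type*} [Group G] [Finite G] {p : ℕ} (hp : p.Prime) (hp2 : p ≠ 2) (hG : p ∣ Nat.card G)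
    (hG' : ¬ p ^ 2 ∣ Nat.card G) (h : ∀ x y : G, orderOf x = p → orderOf y = p → IsConj x y) {χ : IrrCharacter G}
    (hχ : χ ∈ B0 p G) : (charDegree (χ : G → ℂ) : ℤ) ≡ 1 [ZMOD p] ∨ (charDegree (χ : G → ℂ) : ℤ) ≡ -1 [ZMOD p] := by
  have hpF : Fact p.Prime := ⟨hp⟩
  obtain ⟨M, hM⟩ := Blocks.ExistsModular.exists_isPModular hp
  obtain ⟨P⟩ : Nonempty (Sylow p G) := inferInstance
  have hP : Nat.card P = p := by
    rw [P.card_eq_multiplicity]
    have h3 : (Nat.card G).factorization p = 1 := by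
      have h4 := (hp.dvd_iff_one_le_factorization Nat.card_pos.ne').1 hG
      have h5 : ¬ 2 ≤ (Nat.card G).factorization p := fun h6 =>
        hG' ((hp.pow_dvd_iff_le_factorization Nat.card_pos.ne').2 h6)
      omega
    rw [h3, pow_one]
  rw [B0_eq hp hM] at hχ
  have h1 := (Cfsg.Agent.S0960.result p M hM hp2 P hP _ rfl).2 χ hχ
  rw [relIndex_of_conj P hP h] at h1
  have h2 : (((p - 1 : ℕ) : ℤ)) ≡ -1 [ZMOD p] := by
    rw [Nat.cast_sub hp.one_lt.le]
    rw [Int.modEq_iff_dvd]
    exact ⟨-1, by push_cast; ring⟩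
  rcases h1 with h1 | h1 | h1 | h1
  · exact Or.inl h1
  · exact Or.inr h1
  · exact Or.inr (h1.trans h2)
  · exact Or.inl (h1.trans (by simpa using h2.neg))

end Cfsg.Agent.H488.PQ
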