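import Cfsg.Agent.H488.PQ.Alt
import Cfsg.Agent.H894.PQ.Tools
import Cfsg.Agent.H633.Dl.Co1
import Cfsg.Agent.H101.PQ.Own
import Cfsg.Agent.H792.PQ.A3c
import Cfsg.Agent.LThreeCo1T8.Main
import Cfsg.Agent.H813.CoSevenMain
import Cfsg.Agent.KFacts.Co1D4.Main
import Cfsg.Agent.StdG24.Iso6

/-!
# S4612, row `Co₁` (helper488)

* `mems` : the characters of degree 299 and 17250 (trace test for the 98280 pairs of minimal vectors);
* `two_kill` : `C(2B)` contains the normal subgroup `G₂(4)`: `PQ 2 q Co₁` fails for `q = 3, 5, 7, 13`;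
* `three_five` : `C(3D) = 3 × A₉`, `PQ 3 5 Co₁` fails; `seven_kill` : `C(7A) = 7 × A₇`, `PQ 7 q Co₁` fails (`q = 3, 5`);
* `full_seven` : the characters of degree prime to 7 are in the principal 7-block;
* `row_co1`.
-/

set_option autoImplicit false

open Cfsg Cfsg.Agent

namespace Cfsg.Agent.H488.PQ.Co1

open Cfsg.Agent.H317.PQ Cfsg.Agent.Blocks.Basic Cfsg.Agent.H894.PQ
open Cfsg.Agent.H843.IMC Cfsg.Agent.H843.IMC.Co1B Cfsg.Agent.H843.IMC.Co1C Cfsg.Agent.H843.IMC.Co1D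
open Cfsg.Agent.H633.Dl.Co1 (pieces card_co1 finite_co1)
open Cfsg.Agent.H593.IMFrame (Sub perm frame)

/-- The characters of degree 299 and 17250. -/
theorem mems : ∃ ξ α : IrrCharacter Spor.Co1, charDegree (ξ : Spor.Co1 → ℂ) = 299 ∧
    charDegree (α : Spor.Co1 → ℂ) = 17250 ∧ ξ ∈ B0 2 Spor.Co1 ∧ ξ ∈ B0 3 Spor.Co1 ∧ ξ ∈ B0 5 Spor.Co1 ∧
    α ∈ B0 13 Spor.Co1 := by
  classical
  have := finite_co1
  have := Fintype.ofFinite X
  obtain ⟨α, β, ξ, θ, hα, hβ, hθd, hξ, hθ, hfix⟩ := pieces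
  obtain ⟨b, hb⟩ := exists_sub
  have htrans := hb.trans
  have hX : Nat.card X = 98280 := card_X
  have hξd : charDegree (ξ : Spor.Co1 → ℂ) = 299 := by
    have h1 := hfix 1
    have h2 : Nat.card (MulAction.fixedBy X (1 : Spor.Co1)) = 98280 := by
      rw [← hX]
      refine Nat.card_congr ⟨fun x => x.1, fun x => ⟨x, one_smul _ x⟩, fun x => rfl, fun x => rfl⟩
    rw [h2, irr_one_eq_charDegree ξ.2, irr_one_eq_charDegree α.2, irr_one_eq_charDegree β.2, hα, hβ] at h1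
    have h3 : ((98280 : ℕ) : ℂ) = ((1 + charDegree (ξ : Spor.Co1 → ℂ) + 17250 + 80730 : ℕ) : ℂ) := by
      rw [h1]; push_cast; ring
    have h4 : 98280 = 1 + charDegree (ξ : Spor.Co1 → ℂ) + 17250 + 80730 := by exact_mod_cast h3
    omega
  have key : ∀ {p : ℕ}, p.Prime → ∀ k : ℕ, p ^ k ∣ 98280 → p ^ k ∣ 1 + dB p ξ + dB p α + dB p β := by
    intro p hp k hk
    have h1 := (trace_four (X := X) hp hfix (by rw [hξd]; norm_num) (by rw [hξd, hα]; norm_num)
      (by rw [hα, hβ]; norm_num)).1 k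
    rw [hX] at h1
    exact h1 hk
  have hcase : ∀ (p : ℕ) (χ : IrrCharacter Spor.Co1), (χ ∈ B0 p Spor.Co1 ∧ dB p χ = charDegree (χ : Spor.Co1 → ℂ)) ∨
      (χ ∉ B0 p Spor.Co1 ∧ dB p χ = 0) := by
    intro p χ
    by_cases h : χ ∈ B0 p Spor.Co1
    · exact Or.inl ⟨h, dB_pos h⟩
    · exact Or.inr ⟨h, dB_neg h⟩
  refine ⟨ξ, α, hξd, hα, ?_, ?_, ?_, ?_⟩
  · have h1 := key Nat.prime_two 3 (by norm_num)
    rcases hcase 2 ξ with ⟨h, h2⟩ | ⟨h, h2⟩
    · exact h
    exfalso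
    rcases hcase 2 α with ⟨h', h3⟩ | ⟨h', h3⟩ <;> rcases hcase 2 β with ⟨h'', h4⟩ | ⟨h'', h4⟩ <;>
      rw [h2, h3, h4] at h1 <;> (try rw [hα] at h1) <;> (try rw [hβ] at h1) <;> norm_num at h1
  · have h1 := key Nat.prime_three 3 (by norm_num)
    rcases hcase 3 ξ with ⟨h, h2⟩ | ⟨h, h2⟩
    · exact h
    exfalso
    rcases hcase 3 α with ⟨h', h3⟩ | ⟨h', h3⟩ <;> rcases hcase 3 β with ⟨h'', h4⟩ | ⟨h'', h4⟩ <;>
      rw [h2, h3, h4] at h1 <;> (try rw [hα] at h1) <;> (try rw [hβ] at h1) <;> norm_num at h1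
  · have h1 := key Nat.prime_five 1 (by norm_num)
    rcases hcase 5 ξ with ⟨h, h2⟩ | ⟨h, h2⟩
    · exact h
    exfalso
    rcases hcase 5 α with ⟨h', h3⟩ | ⟨h', h3⟩ <;> rcases hcase 5 β with ⟨h'', h4⟩ | ⟨h'', h4⟩ <;>
      rw [h2, h3, h4] at h1 <;> (try rw [hα] at h1) <;> (try rw [hβ] at h1) <;> norm_num at h1
  · have h1 := key (p := 13) (by norm_num) 1 (by norm_num)
    rcases hcase 13 α with ⟨h, h2⟩ | ⟨h, h2⟩
    · exact h
    exfalso
    rcases hcase 13 ξ with ⟨h', h3⟩ | ⟨h', h3⟩ <;> rcases hcase 13 β with ⟨h'', h4⟩ | ⟨h'', h4⟩ <;>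
      rw [h2, h3, h4] at h1 <;> (try rw [hξd] at h1) <;> (try rw [hβ] at h1) <;> norm_num at h1

open Cfsg.Agent.H800.ME in
theorem conj_eleven {x y : Spor.Co1} (hx : orderOf x = 11) (hy : orderOf y = 11) : IsConj x y := by
  obtain ⟨g, hg⟩ := CoFacts.conj_s hx
  obtain ⟨h, hh⟩ := CoFacts.conj_s hy
  rw [isConj_iff]
  refine ⟨h * g⁻¹, ?_⟩
  rw [← hg, ← hh]
  group

theorem not_eleven {χ : IrrCharacter Spor.Co1} (h : charDegree (χ : Spor.Co1 → ℂ) % 11 = 2) :
    χ ∉ B0 11 Spor.Co1 := by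
  have := finite_co1
  intro hχ
  have h1 := deg_mod (p := 11) (by norm_num) (by norm_num) (by rw [card_co1]; norm_num) (by rw [card_co1]; norm_num)
    (fun x y => conj_eleven) hχ
  unfold Int.ModEq at h1
  omega

/-- `(p, q)` with `p = 2, 3, 5`, `q = 11, 13, 23`. -/
theorem big {p q : ℕ} (hp : p = 2 ∨ p = 3 ∨ p = 5) (hq : q = 11 ∨ q = 13 ∨ q = 23) : ¬ Same p q Spor.Co1 := by
  have := finite_co1
  obtain ⟨ξ, α, hξ, hα, h2, h3, h5, h13⟩ := mems
  intro hS
  have h1 : ξ ∈ B0 q Spor.Co1 := by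
    have h4 : B0 p Spor.Co1 = B0 q Spor.Co1 := hS
    rw [← h4]
    rcases hp with rfl | rfl | rfl
    · exact h2
    · exact h3
    · exact h5
  rcases hq with rfl | rfl | rfl
  · exact not_eleven (by rw [hξ]) h1
  · exact not_mem_of_dvd (b := 1) (by norm_num) one_ne_zero (by rw [hξ]; norm_num) (by rw [card_co1]; norm_num) h1
  · exact not_mem_of_dvd (b := 1) (by norm_num) one_ne_zero (by rw [hξ]; norm_num) (by rw [card_co1]; norm_num) h1

/-- `(11, 13)`, `(13, 23)`, `(11, 23)` -/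
theorem co1_11_13 : ¬ Same 11 13 Spor.Co1 := by
  obtain ⟨ξ, α, hξ, hα, h2, h3, h5, h13⟩ := mems
  intro hS
  have h4 : B0 11 Spor.Co1 = B0 13 Spor.Co1 := hS
  rw [← h4] at h13
  exact not_eleven (by rw [hα]) h13

theorem co1_13_23 : ¬ Same 13 23 Spor.Co1 := by
  have := finite_co1
  obtain ⟨ξ, α, hξ, hα, h2, h3, h5, h13⟩ := mems
  intro hS
  have h4 : B0 13 Spor.Co1 = B0 23 Spor.Co1 := hS
  rw [h4] at h13
  exact not_mem_of_dvd (b := 1) (by norm_num) one_ne_zero (by rw [hα]; norm_num) (by rw [card_co1]; norm_num) h13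

theorem co1_11_23 : ¬ Same 11 23 Spor.Co1 := by
  have := finite_co1
  exact kill_count (by norm_num) (by norm_num) (by norm_num) (by norm_num) (by rw [card_co1]; norm_num)
    (by rw [card_co1]; norm_num) (by rw [card_co1]; norm_num) (by rw [card_co1]; norm_num) (by decide +kernel)

open Cfsg.Agent.H358.A3 Cfsg.Agent.KFacts.Co1D4
open Equiv

universe u

/-- `G₂(4)` -/
theorem lie_L : IsLieTypeChar 2 GTwo.L := by
  have := Fintype.ofFinite (GaloisField 2 2)
  have hF : Fintype.card (GaloisField 2 2) = 4 := by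
    rw [← Nat.card_eq_fintype_card, GaloisField.card 2 2 (by norm_num)]
    norm_num
  obtain ⟨f⟩ := StdG24.Iso6.equiv_chev (GaloisField 2 2) hF
  refine Or.inr (Or.inr (Or.inr (Or.inr (Or.inr (Or.inr (Or.inl
      ⟨GaloisField 2 2, inferInstance, inferInstance, inferInstance, Or.inl ⟨?_, ⟨GTwo.φ.symm.trans f⟩⟩⟩))))))
  rw [hF]
  norm_num

/-- `PQ 2 q Co₁` fails for `q = 3, 5, 7, 13`. -/
theorem two_kill {q : ℕ} (hq : q = 3 ∨ q = 5 ∨ q = 7 ∨ q = 13) : ¬ PQ 2 q Spor.Co1 := by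
  have := finite_co1
  intro h
  have hqp : q.Prime := by rcases hq with rfl | rfl | rfl | rfl <;> norm_num
  have hq2 : q ≠ 2 := by rcases hq with rfl | rfl | rfl | rfl <;> norm_num
  have hw : orderOf TwoB.w = 2 := orderOf_eq_prime (by rw [pow_two]; exact TwoB.ww) TwoB.w_ne
  have h1 : PQ 2 q GTwo.L := pq_sub Nat.prime_two hqp hq2.symm h (x := TwoB.w) ⟨1, by rw [hw, pow_one]⟩
    (fun l hl => TwoB.Lw l hl) (fun c hc l hl => Main.setup.conj_L hc hl)
  refine H101.PQ.not_PQ_own Nat.prime_two hqp hq2 lie_L ?_ h1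
  rw [GTwo.card_L]
  rcases hq with rfl | rfl | rfl | rfl <;> norm_num

/-- `PQ 3 5 Co₁` fails. -/
theorem three_five : ¬ PQ 3 5 Spor.Co1 := by
  have := finite_co1
  intro h
  obtain ⟨A, hA, ⟨e⟩, h0, hs⟩ := LThreeCo1T8.Main.exists_alt
  have h1 : PQ 3 5 A := by
    refine pq_sub Nat.prime_three Nat.prime_five (by norm_num) h (x := LThreeCo1T8.Main.xx)
      ⟨1, by rw [LThreeCo1T8.Main.order_x, pow_one]⟩ (fun l hl => Subgroup.mem_centralizer_singleton_iff.1 (hA hl))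
      (fun c hc l hl => ?_)
    have hn := LThreeCo1T8.Abs.normal hA hs
    have hc' : c ∈ Subgroup.centralizer ({LThreeCo1T8.Main.xx} : Set Spor.Co1) :=
      Subgroup.mem_centralizer_singleton_iff.2 hc
    exact hn.conj_mem ⟨l, hA hl⟩ hl ⟨c, hc'⟩
  exact a9_kill (PQ.of_equiv e h1)

/-- `PQ 7 q Co₁` fails for `q = 3, 5`. -/
theorem seven_kill {q : ℕ} (hq : q = 3 ∨ q = 5) : ¬ PQ 7 q Spor.Co1 := by
  have := finite_co1
  have hqp : q.Prime := by rcases hq with rfl | rfl <;> norm_num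
  have hq7 : 7 ≠ q := by rcases hq with rfl | rfl <;> norm_num
  have h7 : Nat.Prime 7 := by norm_num
  have h7' : Fact (Nat.Prime 7) := ⟨h7⟩
  intro h
  obtain ⟨V, hV, ⟨e⟩⟩ := H813.CoSevenMain.cent_seven
  have hVp : IsPGroup 7 V := IsPGroup.of_card (n := 1) (by rw [hV, pow_one])
  have h1 := PQ.of_equiv e (PQ.centralizer_subgroup h7 hqp hq7 h V hVp)
  have h2 : PQ 7 q (alternatingGroup (Fin 7)) := by
    refine PQ.map_center h7 hqp hq7 h1 (MonoidHom.snd _ _) (fun a => ⟨(1, a), rfl⟩) ?_ ?_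
    · intro x hx
      have hx2 : x.2 = 1 := hx
      rw [Subgroup.mem_center_iff]
      intro y
      refine Prod.ext (mul_comm _ _) ?_
      show y.2 * x.2 = x.2 * y.2
      rw [hx2, mul_one, one_mul]
    · intro x
      refine ⟨1, Subtype.ext (Prod.ext ?_ ?_)⟩
      · show (x : Multiplicative (ZMod 7) × alternatingGroup (Fin 7)).1 ^ 7 ^ 1 = 1
        have h3 : Nat.card (Multiplicative (ZMod 7)) = 7 := by
          rw [Nat.card_congr Multiplicative.toAdd, Nat.card_zmod]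
        have h4 := pow_card_eq_one' (x := (x : Multiplicative (ZMod 7) × alternatingGroup (Fin 7)).1)
        rw [h3] at h4
        rw [pow_one]
        exact h4
      · show (x : Multiplicative (ZMod 7) × alternatingGroup (Fin 7)).2 ^ 7 ^ 1 = 1
        have hx2 : (x : Multiplicative (ZMod 7) × alternatingGroup (Fin 7)).2 = 1 := x.2
        rw [hx2, one_pow]
  exact a7_kill hq h2

theorem sign77 : (c[0, 1, 2, 3, 4, 5, 6] : Perm (Fin 7)) ∈ alternatingGroup (Fin 7) := by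
  rw [Perm.mem_alternatingGroup]; decide

/-- The characters of degree prime to 7 are in the principal 7-block. -/
theorem full_seven (χ : IrrCharacter Spor.Co1) (hχ : ¬ 7 ∣ charDegree (χ : Spor.Co1 → ℂ)) : χ ∈ B0 7 Spor.Co1 := by
  have := finite_co1
  have h7' : Fact (Nat.Prime 7) := ⟨by norm_num⟩
  obtain ⟨V, hV, ⟨e⟩⟩ := H813.CoSevenMain.cent_seven
  have hcyc : IsCyclic V := isCyclic_of_prime_card (p := 7) hV
  let s : Spor.Co1 := (e.symm (1, ⟨_, sign77⟩) : Subgroup.centralizer (V : Set Spor.Co1))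
  have hs : ∀ v ∈ V, v * s = s * v := fun v hv =>
    Subgroup.mem_centralizer_iff.1 (e.symm (1, ⟨_, sign77⟩)).2 v hv
  refine mem_of_set (p := 7) (by norm_num) (S := (V : Set Spor.Co1) ∪ {s}) ?_ ?_ χ hχ
  · rintro a (ha | rfl) b (hb | rfl)
    · have h9 : IsMulCommutative V := IsCyclic.isMulCommutative
      have h8 := h9.is_comm.comm (⟨a, ha⟩ : V) ⟨b, hb⟩
      exact congrArg Subtype.val h8
    · exact hs a ha
    · exact (hs b hb).symm
    · rfl
  · intro c hc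
    have hcV : c ∈ Subgroup.centralizer (V : Set Spor.Co1) :=
      Subgroup.mem_centralizer_iff.2 fun v hv => hc v (Or.inl hv)
    have hcs := hc s (Or.inr rfl)
    have h1 : e.symm (1, ⟨_, sign77⟩) * (⟨c, hcV⟩ : Subgroup.centralizer (V : Set Spor.Co1)) =
        ⟨c, hcV⟩ * e.symm (1, ⟨_, sign77⟩) := Subtype.ext hcs
    have h2 := congrArg e h1
    rw [map_mul, map_mul, e.apply_symm_apply] at h2
    have h3 := congrArg (fun k => ((k.2 : alternatingGroup (Fin 7)) : Perm (Fin 7))) h2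
    have h4 := comm77 _ h3.symm
    have h5 : (e ⟨c, hcV⟩) ^ 7 = 1 := by
      refine Prod.ext ?_ (Subtype.ext h4)
      have h6 : Nat.card (Multiplicative (ZMod 7)) = 7 := by
        rw [Nat.card_congr Multiplicative.toAdd, Nat.card_zmod]
      have h8 := pow_card_eq_one' (x := (e ⟨c, hcV⟩).1)
      rw [h6] at h8
      exact h8
    rw [← map_pow, e.map_eq_one_iff] at h5
    exact congrArg Subtype.val h5

/-- `(7, q)`, `q = 11, 13, 23`. -/
theorem seven_big {q : ℕ} (hq : q = 11 ∨ q = 13 ∨ q = 23) : ¬ Same 7 q Spor.Co1 := by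
  have := finite_co1
  obtain ⟨ξ, α, hξ, hα, h2, h3, h5, h13⟩ := mems
  intro hS
  have h1 : ξ ∈ B0 q Spor.Co1 := by
    have h4 : B0 7 Spor.Co1 = B0 q Spor.Co1 := hS
    rw [← h4]
    exact full_seven ξ (by rw [hξ]; norm_num)
  rcases hq with rfl | rfl | rfl
  · exact not_eleven (by rw [hξ]) h1
  · exact not_mem_of_dvd (b := 1) (by norm_num) one_ne_zero (by rw [hξ]; norm_num) (by rw [card_co1]; norm_num) h1
  · exact not_mem_of_dvd (b := 1) (by norm_num) one_ne_zero (by rw [hξ]; norm_num) (by rw [card_co1]; norm_num) h1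

/-- **The row `Co₁`.** -/
theorem row_co1 {S : Type u} [Group S] (h : Cfsg.Spor.IsoCo1 S) : Row S := by
  obtain ⟨e⟩ := h
  refine H766.PQ.Row.of_equiv e.symm ?_
  have := finite_co1
  refine Row.of_lt fun p q hp hq hpq hpd hqd hS => ?_
  have hcase : ∀ {r : ℕ}, r.Prime → r ∣ Nat.card Spor.Co1 →
      r = 2 ∨ r = 3 ∨ r = 5 ∨ r = 7 ∨ r = 11 ∨ r = 13 ∨ r = 23 := by
    intro r hr hd
    rw [card_co1, show 4157776806543360000 = 2 ^ 21 * (3 ^ 9 * (5 ^ 4 * (7 ^ 2 * (11 * (13 * 23))))) by norm_num] at hd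
    have hpr : ∀ {s k : ℕ}, s.Prime → r ∣ s ^ k → r = s := fun hs h => (Nat.prime_dvd_prime_iff_eq hr hs).1 (hr.dvd_of_dvd_pow h)
    have hpr' : ∀ {s : ℕ}, s.Prime → r ∣ s → r = s := fun hs h => (Nat.prime_dvd_prime_iff_eq hr hs).1 h
    rcases hr.dvd_mul.1 hd with hd | hd
    · exact Or.inl (hpr (by norm_num) hd)
    rcases hr.dvd_mul.1 hd with hd | hd
    · exact Or.inr (Or.inl (hpr (by norm_num) hd))
    rcases hr.dvd_mul.1 hd with hd | hd
    · exact Or.inr (Or.inr (Or.inl (hpr (by norm_num) hd)))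
    rcases hr.dvd_mul.1 hd with hd | hd
    · exact Or.inr (Or.inr (Or.inr (Or.inl (hpr (by norm_num) hd))))
    rcases hr.dvd_mul.1 hd with hd | hd
    · exact Or.inr (Or.inr (Or.inr (Or.inr (Or.inl (hpr' (by norm_num) hd)))))
    rcases hr.dvd_mul.1 hd with hd | hd
    · exact Or.inr (Or.inr (Or.inr (Or.inr (Or.inr (Or.inl (hpr' (by norm_num) hd))))))
    · exact Or.inr (Or.inr (Or.inr (Or.inr (Or.inr (Or.inr (hpr' (by norm_num) hd))))))
  have hPQ : PQ p q Spor.Co1 := PQ.of_same hq hS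
  have hPQ' : PQ q p Spor.Co1 := PQ.of_same hp hS.symm
  rcases hcase hp hpd with rfl | rfl | rfl | rfl | rfl | rfl | rfl <;>
    rcases hcase hq hqd with rfl | rfl | rfl | rfl | rfl | rfl | rfl <;>
    first
      | exact absurd hpq (by decide)
      | exact two_kill (by decide) hPQ
      | exact three_five hPQ
      | exact seven_kill (by decide) hPQ'
      | exact big (by decide) (by decide) hS
      | exact seven_big (by decide) hS
      | exact co1_11_13 hS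
      | exact co1_11_23 hS
      | exact co1_13_23 hS

end Cfsg.Agent.H488.PQ.Co1
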