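import Cfsg.Agent.H488.PQ.Height
import Cfsg.Agent.H149.Sp.CopCoInv
import Cfsg.Agent.H763.Wk.CoTwoThree
import Cfsg.Agent.H171.Odd.ConwayA
import Cfsg.Agent.H633.Dl.Co2
import Cfsg.Agent.H684.Defect
import Cfsg.Agent.H149.Sp.Conway
import Cfsg.Agent.H769.PB.RowCoTwo
import Cfsg.Agent.H410.TwoCo2

/-!
# S4612: the row `Co₂` (helper488)

The group is of characteristic 2 type: the characters of degree not divisible by `2 ^ 18` are in the principal 2-block;
`NB 3 1`, `NB 5 2`; the degrees 23, 275, 2277, 44275 and a constituent of the fourth exterior power of the representation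
of degree 23. Pair (2, 3): the sum of the squares of the degrees outside of the principal block is divisible by `3 ^ 6` and
less than `2 ^ 36 * 3 ^ 6`.
-/

set_option autoImplicit false

open Cfsg Cfsg.Agent

namespace Cfsg.Agent.H488.PQ

open Cfsg.Agent.H317.PQ Cfsg.Agent.Blocks.Basic Cfsg.Agent.Blocks.Local Cfsg.Agent.H709.PB

universe u

section General

variable {G : Type u} [Group G] [Finite G]

omit [Finite G] in
/-- A `p`-subgroup is conjugate to a subgroup of `H`, if the index of `H` is prime to `p`. -/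
theorem conj_into {p : ℕ} [Fact p.Prime] {H : Subgroup G} (hH : ¬ p ∣ H.index) {A : Subgroup G} (hA : IsPGroup p A) :
    ∃ g : G, ∀ a ∈ A, g⁻¹ * a * g ∈ H := by
  have h1 : ¬ p ∣ Nat.card (G ⧸ H) := hH
  obtain ⟨c, hc⟩ := hA.nonempty_fixed_point_of_prime_not_dvd_card (G ⧸ H) h1
  obtain ⟨g, rfl⟩ := QuotientGroup.mk_surjective c
  refine ⟨g, fun a ha => ?_⟩
  have h2 : ((a * g : G) : G ⧸ H) = (g : G ⧸ H) := hc ⟨a, ha⟩
  have h3 := QuotientGroup.eq.1 h2.symm
  rwa [← mul_assoc] at h3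

/-- Groups of characteristic 2 type: the characters of degree not divisible by the 2-part of the order. -/
theorem mem_two (h : IsCharacteristicTwoType G) (χ : IrrCharacter G)
    (hχ : ¬ 2 ^ (Nat.card G).factorization 2 ∣ charDegree (χ : G → ℂ)) : χ ∈ B0 2 G := by
  have : Fact (Nat.Prime 2) := ⟨Nat.prime_two⟩
  obtain ⟨M, hM⟩ := Blocks.ExistsModular.exists_isPModular Nat.prime_two
  rw [B0_eq Nat.prime_two hM]
  exact (H684.Defect.mem_or_dvd hM h.2 χ).resolve_right hχ

/-- The number `|G|` and the squares of the degrees outside of the principal block. -/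
theorem sum_sq_compl (p : ℕ) [Fintype (IrrCharacter G)] [DecidablePred fun χ : IrrCharacter G => χ ∈ B0 p G] :
    (∑ᶠ χ ∈ B0 p G, charDegree (χ : G → ℂ) ^ 2) +
      ∑ χ : IrrCharacter G with χ ∉ B0 p G, charDegree (χ : G → ℂ) ^ 2 = Nat.card G := by
  classical
  have := Fintype.ofFinite G
  have hsq : ∑ χ : IrrCharacter G, charDegree (χ : G → ℂ) ^ 2 = Nat.card G := by
    have h := Cfsg.Agent.CharDeep.PowerDegrees.sum_sq (G := G)
    have h2 : ∑ χ : IrrCharacter G, (χ : G → ℂ) 1 ^ 2 =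
        ((∑ χ : IrrCharacter G, charDegree (χ : G → ℂ) ^ 2 : ℕ) : ℂ) := by
      push_cast
      refine Finset.sum_congr rfl fun χ _ => ?_
      rw [irr_one_eq_charDegree χ.2]
    rw [h2] at h
    exact_mod_cast h
  have h1 : (∑ᶠ χ ∈ B0 p G, charDegree (χ : G → ℂ) ^ 2) =
      ∑ χ : IrrCharacter G with χ ∈ B0 p G, charDegree (χ : G → ℂ) ^ 2 := by
    rw [finsum_mem_eq_finite_toFinset_sum _ (Set.toFinite _)]
    refine Finset.sum_congr ?_ fun _ _ => rfl
    ext χ
    simp
  rw [h1, Finset.sum_filter_add_sum_filter_not, hsq]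

/-- **Characteristic 2 type, a character of 2-defect zero, and an odd prime with a large power in the order.** -/
theorem kill_char_two (h : IsCharacteristicTwoType G) {a q b : ℕ} (ha : (Nat.card G).factorization 2 = a) (ha0 : a ≠ 0)
    {η : IrrCharacter G} (hη : 2 ^ a ∣ charDegree (η : G → ℂ)) (hq : q.Prime) (hq2 : q ≠ 2) (hqd : q ^ b ∣ Nat.card G)
    (hbig : Nat.card G < 2 ^ (2 * a) * q ^ b) : ¬ Same 2 q G := by
  classical
  intro hS
  have hfin : Finite (IrrCharacter G) := Characters.Core.finite_irr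
  have := Fintype.ofFinite (IrrCharacter G)
  have hB : B0 2 G = B0 q G := hS
  have h1 := sum_sq_compl (G := G) q
  have hqs : q ^ b ∣ ∑ᶠ χ ∈ B0 q G, charDegree (χ : G → ℂ) ^ 2 := by
    by_cases h0 : (∑ᶠ χ ∈ B0 q G, charDegree (χ : G → ℂ) ^ 2) = 0
    · rw [h0]; exact dvd_zero _
    · rw [hq.pow_dvd_iff_le_factorization h0, sq_fac hq]
      exact (hq.pow_dvd_iff_le_factorization Nat.card_pos.ne').1 hqd
  have h2 : q ^ b ∣ ∑ χ : IrrCharacter G with χ ∉ B0 q G, charDegree (χ : G → ℂ) ^ 2 := by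
    rw [← Nat.dvd_add_iff_right hqs |>.symm] at *
    exact (Nat.dvd_add_iff_right hqs).2 (by rw [h1]; exact hqd)
  have h3 : 2 ^ (2 * a) ∣ ∑ χ : IrrCharacter G with χ ∉ B0 q G, charDegree (χ : G → ℂ) ^ 2 := by
    refine Finset.dvd_sum fun χ hχ => ?_
    rw [Finset.mem_filter, ← hB] at hχ
    have h4 : 2 ^ a ∣ charDegree (χ : G → ℂ) := by
      by_contra h5
      exact hχ.2 (mem_two h χ (by rw [ha]; exact h5))
    rw [mul_comm, pow_mul]
    exact pow_dvd_pow_of_dvd h4 2
  have h4 : 2 ^ (2 * a) * q ^ b ∣ ∑ χ : IrrCharacter G with χ ∉ B0 q G, charDegree (χ : G → ℂ) ^ 2 :=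
    Nat.Coprime.mul_dvd_of_dvd_of_dvd (Nat.Coprime.pow _ _ ((Nat.coprime_primes Nat.prime_two hq).2 (Ne.symm hq2))) h3 h2
  have h5 : η ∉ B0 q G := by
    rw [← hB]
    refine not_mem_of_dvd Nat.prime_two ha0 hη fun h6 => ?_
    have h7 := (Nat.prime_two.pow_dvd_iff_le_factorization Nat.card_pos.ne').1 h6
    omega
  have h6 : 0 < ∑ χ : IrrCharacter G with χ ∉ B0 q G, charDegree (χ : G → ℂ) ^ 2 :=
    Finset.sum_pos' (fun _ _ => Nat.zero_le _)
      ⟨η, Finset.mem_filter.2 ⟨Finset.mem_univ _, h5⟩, pow_pos (charDegree_pos η.2) 2⟩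
  have h7 := Nat.le_of_dvd h6 h4
  omega

theorem mem_nb {p a d : ℕ} (hp : p.Prime) (h : NB p a G) {χ : IrrCharacter G} (hd : charDegree (χ : G → ℂ) = d)
    (h1 : ¬ p ^ a ∣ d) : χ ∈ B0 p G := by
  have hpF : Fact p.Prime := ⟨hp⟩
  obtain ⟨M, hM⟩ := Blocks.ExistsModular.exists_isPModular hp
  rw [B0_eq hp hM]
  by_contra h3
  exact h1 (hd ▸ h M hM χ h3)

theorem cb_symm {p q : ℕ} (_hp : p.Prime) (hq : q.Prime) (h : H537.Cop.CB q p 0 G) : H537.Cop.CB p q 0 G := by
  intro x hx hd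
  have : Fact q.Prime := ⟨hq⟩
  rw [zero_add, pow_one] at hd
  obtain ⟨⟨y, hy⟩, ho⟩ := exists_prime_orderOf_dvd_card' (G := Subgroup.centralizer ({x} : Set G)) q hd
  rw [Subgroup.orderOf_mk] at ho
  refine h y ho ?_
  rw [zero_add, pow_one, ← hx]
  exact Subgroup.orderOf_dvd_natCard _
    (Subgroup.mem_centralizer_singleton_iff.2 (Subgroup.mem_centralizer_singleton_iff.1 hy).symm)

/-- `d` is `± 1` or `± e` modulo `r` -/
def okD (r d e : ℕ) : Bool :=
  decide (((d : ℤ) - 1) % r = 0) || (decide (((d : ℤ) + 1) % r = 0) ||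
    (decide (((d : ℤ) - e) % r = 0) || decide (((d : ℤ) + e) % r = 0)))

/-- no `e`, `f` with the same count for which `d` is admissible -/
def okAll (p q d : ℕ) : Bool :=
  (List.range p).all fun e => (List.range q).all fun f =>
    !(decide (e ∣ p - 1) && (decide (f ∣ q - 1) && (okD p d e && (okD q d f &&
      decide (e + (p - 1) / e = f + (q - 1) / f)))))

/-- Two exact primes: the numbers of characters and one degree. -/
theorem kill_exact {p q d : ℕ} (hp : p.Prime) (hq : q.Prime) (hp2 : p ≠ 2) (hq2 : q ≠ 2) (hpG : p ∣ Nat.card G)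
    (hpG' : ¬ p ^ 2 ∣ Nat.card G) (hqG : q ∣ Nat.card G) (hqG' : ¬ q ^ 2 ∣ Nat.card G) {χ : IrrCharacter G}
    (hd : charDegree (χ : G → ℂ) = d) (hχ : χ ∈ B0 p G)
    (h : okAll p q d = true) : ¬ Same p q G := by
  have key : ∀ {r : ℕ}, r.Prime → r ≠ 2 → r ∣ Nat.card G → ¬ r ^ 2 ∣ Nat.card G → χ ∈ B0 r G →
      ∃ e < r, e ∣ r - 1 ∧ Nat.card (B0 r G) = e + (r - 1) / e ∧ okD r d e = true := by
    intro r hr hr2 hrG hrG' hm
    have hrF : Fact r.Prime := ⟨hr⟩
    obtain ⟨P⟩ : Nonempty (Sylow r G) := inferInstance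
    have hP : Nat.card P = r := by
      rw [P.card_eq_multiplicity]
      have h3 : (Nat.card G).factorization r = 1 := by
        have h4 := (hr.dvd_iff_one_le_factorization Nat.card_pos.ne').1 hrG
        have h5 : ¬ 2 ≤ (Nat.card G).factorization r := fun h6 =>
          hrG' ((hr.pow_dvd_iff_le_factorization Nat.card_pos.ne').2 h6)
        omega
      rw [h3, pow_one]
    have hdv := Cfsg.Agent.SmallSimple.BurnsideNC.relIndex_dvd_of_card_eq_prime P hP
    refine ⟨_, ?_, hdv, H642.PQ.card_B0 hr hr2 P hP _ rfl, ?_⟩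
    · have := Nat.le_of_dvd (by have := hr.two_le; omega) hdv
      have := hr.two_le
      omega
    · have h1 := H642.PQ.deg_test hr hr2 P hP _ rfl hm
      rw [hd] at h1
      simp only [okD, Bool.or_eq_true, decide_eq_true_eq]
      rcases h1 with h1 | h1 | h1 | h1
      · exact Or.inl (Int.emod_eq_zero_of_dvd (Int.ModEq.dvd h1.symm))
      · refine Or.inr (Or.inl (Int.emod_eq_zero_of_dvd ?_))
        have := Int.ModEq.dvd h1.symm
        rwa [sub_neg_eq_add] at this
      · exact Or.inr (Or.inr (Or.inl (Int.emod_eq_zero_of_dvd (Int.ModEq.dvd h1.symm))))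
      · refine Or.inr (Or.inr (Or.inr (Int.emod_eq_zero_of_dvd ?_)))
        have := Int.ModEq.dvd h1.symm
        rwa [sub_neg_eq_add] at this
  intro hS
  have hB : B0 p G = B0 q G := hS
  obtain ⟨e, he, he1, he2, he3⟩ := key hp hp2 hpG hpG' hχ
  obtain ⟨f, hf, hf1, hf2, hf3⟩ := key hq hq2 hqG hqG' (by rw [← hB]; exact hχ)
  have h1 := List.all_eq_true.1 (List.all_eq_true.1 h e (List.mem_range.2 he)) f (List.mem_range.2 hf)
  have h2 : e + (p - 1) / e = f + (q - 1) / f := by rw [← he2, ← hf2, hB]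
  simp only [he1, hf1, he3, hf3, h2, decide_true, Bool.and_self, Bool.not_true] at h1
  exact absurd h1 (by decide)

/-- A constituent of degree not divisible by `n`. -/
theorem exists_const {W : G → ℂ} (hW : IsCharacter G W) {n d : ℕ} (hd : W 1 = d) (hn : ¬ n ∣ d) [Fintype G] :
    ∃ ψ : IrrCharacter G, classInner W (ψ : G → ℂ) ≠ 0 ∧ ¬ n ∣ charDegree (ψ : G → ℂ) := by
  classical
  have : Finite (IrrCharacter G) := Characters.Core.finite_irr
  have := Fintype.ofFinite (IrrCharacter G)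
  by_contra hcon
  push Not at hcon
  obtain ⟨m, hm⟩ := Characters.Core.exists_nat_comb hW
  have hin : ∀ ψ : IrrCharacter G, classInner W (ψ : G → ℂ) = m ψ := by
    intro ψ
    have h1 : W = ∑ χ : IrrCharacter G, (m χ : ℂ) • (χ : G → ℂ) := by
      funext g
      rw [hm]
      simp [Finset.sum_apply]
    rw [h1, Characters.Core.classInner_sum_left, Finset.sum_eq_single ψ]
    · rw [Characters.Core.classInner_smul_left, Characters.Core.classInner_irr_self ψ.2, mul_one]
    · intro χ _ hχ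
      rw [Characters.Core.classInner_smul_left,
        Characters.Core.classInner_irr_ne χ.2 ψ.2 (fun h3 => hχ (Subtype.ext h3)), mul_zero]
    · intro h
      exact absurd (Finset.mem_univ _) h
  have hdeg : d = ∑ ψ : IrrCharacter G, m ψ * charDegree (ψ : G → ℂ) := by
    have h1 : (d : ℂ) = ((∑ ψ : IrrCharacter G, m ψ * charDegree (ψ : G → ℂ) : ℕ) : ℂ) := by
      rw [← hd, hm, Finset.sum_apply]
      push_cast
      refine Finset.sum_congr rfl fun ψ _ => ?_
      rw [Pi.smul_apply, nsmul_eq_mul, irr_one_eq_charDegree ψ.2]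
    exact_mod_cast h1
  apply hn
  rw [hdeg]
  refine Finset.dvd_sum fun ψ _ => ?_
  by_cases h0 : m ψ = 0
  · rw [h0, zero_mul]; exact dvd_zero _
  · exact (hcon ψ (by rw [hin]; exact_mod_cast h0)).mul_left _

end General

namespace Co2

open Cfsg.Agent.H149.Sp.CopCo Cfsg.Agent.H149.Sp Cfsg.Agent.H537.Cop

theorem finite_co2' : Finite Spor.Co2 := Cfsg.Agent.Co2Type.CardCo2.finite_co2

theorem card_co2 : Nat.card Spor.Co2 = 42305421312000 := Cfsg.Agent.Co2Type.CardCo2.card_co2

theorem primes {r : ℕ} (hr : r.Prime) (hd : r ∣ Nat.card Spor.Co2) :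
    r = 2 ∨ r = 3 ∨ r = 5 ∨ r = 7 ∨ r = 11 ∨ r = 23 := by
  rw [card_co2, show 42305421312000 = 2 ^ 18 * (3 ^ 6 * (5 ^ 3 * (7 * (11 * 23)))) by norm_num] at hd
  have hpr : ∀ {s k : ℕ}, s.Prime → r ∣ s ^ k → r = s := fun hs h => (Nat.prime_dvd_prime_iff_eq hr hs).1 (hr.dvd_of_dvd_pow h)
  have hpr' : ∀ {s : ℕ}, s.Prime → r ∣ s → r = s := fun hs h => (Nat.prime_dvd_prime_iff_eq hr hs).1 h
  rcases hr.dvd_mul.1 hd with hd | hd
  · exact Or.inl (hpr (by norm_num) hd)
  rcases hr.dvd_mul.1 hd with hd | hd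
  · exact Or.inr (Or.inl (hpr (by norm_num) hd))
  rcases hr.dvd_mul.1 hd with hd | hd
  · exact Or.inr (Or.inr (Or.inl (hpr (by norm_num) hd)))
  rcases hr.dvd_mul.1 hd with hd | hd
  · exact Or.inr (Or.inr (Or.inr (Or.inl (hpr' (by norm_num) hd))))
  rcases hr.dvd_mul.1 hd with hd | hd
  · exact Or.inr (Or.inr (Or.inr (Or.inr (Or.inl (hpr' (by norm_num) hd)))))
  · exact Or.inr (Or.inr (Or.inr (Or.inr (Or.inr (hpr' (by norm_num) hd)))))

theorem fac_two : (Nat.card Spor.Co2).factorization 2 = 18 := by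
  have := finite_co2'
  have h1 : 2 ^ 18 ∣ Nat.card Spor.Co2 := by rw [card_co2]; norm_num
  have h2 : ¬ 2 ^ 19 ∣ Nat.card Spor.Co2 := by rw [card_co2]; norm_num
  have h3 := (Nat.prime_two.pow_dvd_iff_le_factorization Nat.card_pos.ne').1 h1
  have h4 : ¬ 19 ≤ (Nat.card Spor.Co2).factorization 2 := fun h5 =>
    h2 ((Nat.prime_two.pow_dvd_iff_le_factorization Nat.card_pos.ne').2 h5)
  omega

/-- the characters outside of the principal 5-block have degree divisible by 25 -/
theorem nb_five : NB 5 2 Spor.Co2 := by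
  have := finite_co2'
  have : Fact (Nat.Prime 5) := ⟨Nat.prime_five⟩
  refine NB.of_orders (q := 5) (a := 3) (by rw [card_co2]; norm_num) fun y hy h5 hd => ?_
  rw [show 3 + 1 - 2 = 2 by norm_num] at hd
  rcases primes hy (orderOf_dvd_natCard y) with h | h | h | h | h | h
  · exact co2_2_5 y h hd
  · exact co2_3_5 y h hd
  · exact h5 h
  · exact co2_p5 p7 p5 (by norm_num) y h ((pow_dvd_pow 5 (by norm_num)).trans hd)
  · exact co2_p5 p11 p5 (by norm_num) y h ((pow_dvd_pow 5 (by norm_num)).trans hd)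
  · exact co2_p5 p23 p5 (by norm_num) y h ((pow_dvd_pow 5 (by norm_num)).trans hd)

theorem inv_three {t : Spor.Co2} (ht : orderOf t = 2) :
    ¬ 3 ^ 6 ∣ Nat.card (Subgroup.centralizer ({t} : Set Spor.Co2)) := by
  have := finite_co2'
  have h3f : Fact (Nat.Prime 3) := ⟨Nat.prime_three⟩
  intro hd
  obtain ⟨x, hx⟩ := exists_prime_orderOf_dvd_card' (G := Spor.Co2) 3 (by rw [card_co2]; norm_num)
  obtain ⟨A0, hA0, hA3, hA4⟩ := H763.Wk.CoTwo.rank_three hx
  let A : Subgroup Spor.Co2 := A0.map (Subgroup.centralizer ({x} : Set Spor.Co2)).subtype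
  have hAp : IsPGroup 3 A := by
    rintro ⟨a, ha⟩
    refine ⟨1, Subtype.ext ?_⟩
    obtain ⟨b, hb, rfl⟩ := ha
    have h1 := hA3 b hb
    rw [pow_one]
    show ((b : Subgroup.centralizer ({x} : Set Spor.Co2)) : Spor.Co2) ^ 3 = 1
    rw [← Subgroup.coe_pow, h1, Subgroup.coe_one]
  have hidx : ¬ 3 ∣ (Subgroup.centralizer ({t} : Set Spor.Co2)).index := by
    intro h1
    have h2 := mul_dvd_mul hd h1
    rw [Subgroup.card_mul_index, card_co2] at h2
    revert h2
    norm_num
  obtain ⟨g, hg⟩ := conj_into hidx hAp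
  let B : Subgroup Spor.Co2 := A.map (MulAut.conj g⁻¹).toMonoidHom
  have hcard : Nat.card B = Nat.card A0 := by
    rw [Subgroup.card_map_of_injective (MulAut.conj g⁻¹).injective,
      Subgroup.card_map_of_injective (Subgroup.subtype_injective _)]
  have hmem : ∀ b ∈ B, ∃ a ∈ A0, b = g⁻¹ * (a : Spor.Co2) * g := by
    rintro _ ⟨_, ⟨a, ha, rfl⟩, rfl⟩
    exact ⟨a, ha, by simp⟩
  have hBc : IsMulCommutative B := by
    refine ⟨⟨fun b c => Subtype.ext ?_⟩⟩
    obtain ⟨a, ha, h1⟩ := hmem b b.2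
    obtain ⟨a', ha', h2⟩ := hmem c c.2
    have h3 := congrArg Subtype.val (hA0.is_comm.comm (⟨a, ha⟩ : A0) ⟨a', ha'⟩)
    have h4 : (a : Spor.Co2) * a' = a' * a := congrArg Subtype.val h3
    show (b : Spor.Co2) * c = c * b
    rw [h1, h2]
    calc g⁻¹ * (a : Spor.Co2) * g * (g⁻¹ * (a' : Spor.Co2) * g) = g⁻¹ * ((a : Spor.Co2) * a') * g := by group
      _ = _ := by rw [h4]; group
  have h1 : t ≠ 1 := by
    rintro rfl
    rw [orderOf_one] at ht
    omega
  have h2 := SigZeroCo2.Main.no_four h1 (by rw [← pow_two, ← ht, pow_orderOf_eq_one]) hBc ?_ ?_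
  · rw [hcard] at h2
    norm_num at hA4
    omega
  · intro b hb
    obtain ⟨a, ha, rfl⟩ := hmem b hb
    have h3 : (a : Spor.Co2) ^ 3 = 1 := congrArg Subtype.val (hA3 a ha)
    have h4 : (g⁻¹ * (a : Spor.Co2) * g) ^ 3 = g⁻¹ * (a : Spor.Co2) ^ 3 * g := by
      simp only [pow_succ, pow_zero, one_mul]; group
    rw [h4, h3]; group
  · intro b hb
    obtain ⟨a, ha, rfl⟩ := hmem b hb
    have h3 := hg (a : Spor.Co2) ⟨a, ha, rfl⟩
    exact Subgroup.mem_centralizer_singleton_iff.1 h3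

/-- the characters outside of the principal 3-block have degree divisible by 3 -/
theorem nb_three : NB 3 1 Spor.Co2 := by
  have := finite_co2'
  have : Fact (Nat.Prime 3) := ⟨Nat.prime_three⟩
  refine NB.of_orders (q := 3) (a := 6) (by rw [card_co2]; norm_num) fun y hy h3 hd => ?_
  rw [show 6 + 1 - 1 = 6 by norm_num] at hd
  rcases primes hy (orderOf_dvd_natCard y) with h | h | h | h | h | h
  · exact inv_three h hd
  · exact h3 h
  · exact co2_5_3 y h ((pow_dvd_pow 3 (by norm_num)).trans hd)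
  · exact H171.Odd.Conway.not_dvd_seven f2 f2_inj leechU_ne f2_fix h ((pow_dvd_pow 3 (by norm_num)).trans hd)
  · exact co2_11_3 y h ((pow_dvd_pow 3 (by norm_num)).trans hd)
  · rw [H410.TwoCo2.card_cent_23 h] at hd
    revert hd
    norm_num

/-- the known characters -/
theorem chars : ∃ α β γ δ : IrrCharacter Spor.Co2, charDegree (α : Spor.Co2 → ℂ) = 23 ∧
    charDegree (β : Spor.Co2 → ℂ) = 275 ∧ charDegree (γ : Spor.Co2 → ℂ) = 2277 ∧
    charDegree (δ : Spor.Co2 → ℂ) = 44275 := by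
  obtain ⟨α, hα⟩ := H843.IMC.Co2A.hasDeg_23
  obtain ⟨β, hβ, -⟩ := H769.PB.RowCoTwo.exists_275
  obtain ⟨γ, hγ, -⟩ := H769.PB.RowCoTwo.exists_2277
  obtain ⟨δ, hδ⟩ := H714.DG.CoTwoX.exists_44275
  exact ⟨α, β, γ, δ, hα, hβ, hγ, hδ⟩

/-- a constituent of the fourth exterior power -/
theorem exists_seven : ∃ ψ : IrrCharacter Spor.Co2, 7 ∣ charDegree (ψ : Spor.Co2 → ℂ) ∧
    ¬ 5 ^ 2 ∣ charDegree (ψ : Spor.Co2 → ℂ) := by
  have := finite_co2'
  have := Fintype.ofFinite Spor.Co2
  obtain ⟨ψ, h1, h2⟩ := exists_const H769.PB.Lam23.isCharacter_W (n := 5 ^ 2) H769.PB.Lam23.W_one (by norm_num)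
  exact ⟨ψ, H769.PB.Lam23.dvd7 ψ h1, h2⟩

/-- `(2, q)` -/
theorem two_kill {q : ℕ} (hq : q = 3 ∨ q = 5 ∨ q = 7 ∨ q = 11 ∨ q = 23) : ¬ Same 2 q Spor.Co2 := by
  have := finite_co2'
  have hC := SevenCases.SporCo2.charTwo_Co2
  obtain ⟨α, β, γ, δ, hα, hβ, hγ, hδ⟩ := chars
  have hm : ∀ χ : IrrCharacter Spor.Co2, ¬ 2 ^ 18 ∣ charDegree (χ : Spor.Co2 → ℂ) → χ ∈ B0 2 Spor.Co2 := fun χ h =>
    mem_two hC χ (by rw [fac_two]; exact h)
  rcases hq with rfl | rfl | rfl | rfl | rfl
  · obtain ⟨η, hη⟩ := H633.Dl.Co2.exists_defect_zero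
    refine kill_char_two hC fac_two (by norm_num) (η := η) ?_ Nat.prime_three (by norm_num) (b := 6)
      (by rw [card_co2]; norm_num) (by rw [card_co2]; norm_num)
    rw [Nat.prime_two.pow_dvd_iff_le_factorization (charDegree_pos η.2).ne', hη, fac_two]
  all_goals intro hS
  all_goals have hB : B0 2 Spor.Co2 = B0 _ Spor.Co2 := hS
  · have h1 := hm β (by rw [hβ]; norm_num)
    rw [hB] at h1
    exact not_mem_height (b := 2) (by norm_num) (by norm_num) (by rw [hβ]; norm_num) (by rw [card_co2]; norm_num) h1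
  · have h1 := hm δ (by rw [hδ]; norm_num)
    rw [hB] at h1
    exact not_mem_height (b := 1) (by norm_num) (by norm_num) (by rw [hδ]; norm_num) (by rw [card_co2]; norm_num) h1
  · have h1 := hm β (by rw [hβ]; norm_num)
    rw [hB] at h1
    exact not_mem_height (b := 1) (by norm_num) (by norm_num) (by rw [hβ]; norm_num) (by rw [card_co2]; norm_num) h1
  · have h1 := hm α (by rw [hα]; norm_num)
    rw [hB] at h1
    exact not_mem_height (b := 1) (by norm_num) (by norm_num) (by rw [hα, pow_one]) (by rw [card_co2]; norm_num) h1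

/-- `(3, q)` -/
theorem three_kill {q : ℕ} (hq : q = 5 ∨ q = 7 ∨ q = 11 ∨ q = 23) : ¬ Same 3 q Spor.Co2 := by
  have := finite_co2'
  obtain ⟨α, β, γ, δ, hα, hβ, hγ, hδ⟩ := chars
  rcases hq with rfl | rfl | rfl | rfl
  · exact kill_height Nat.prime_three (by norm_num) nb_three hβ (b := 2) (by norm_num) (by norm_num) (by norm_num)
      (by rw [card_co2]; norm_num)
  · exact kill_height Nat.prime_three (by norm_num) nb_three hδ (b := 1) (by norm_num) (by norm_num) (by norm_num)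
      (by rw [card_co2]; norm_num)
  · exact kill_height Nat.prime_three (by norm_num) nb_three hδ (b := 1) (by norm_num) (by norm_num) (by norm_num)
      (by rw [card_co2]; norm_num)
  · exact kill_height Nat.prime_three (by norm_num) nb_three hδ (b := 1) (by norm_num) (by norm_num) (by norm_num)
      (by rw [card_co2]; norm_num)

/-- `(5, q)` -/
theorem five_kill {q : ℕ} (hq : q = 7 ∨ q = 11 ∨ q = 23) : ¬ Same 5 q Spor.Co2 := by
  have := finite_co2'
  obtain ⟨α, β, γ, δ, hα, hβ, hγ, hδ⟩ := chars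
  rcases hq with rfl | rfl | rfl
  · obtain ⟨ψ, h1, h2⟩ := exists_seven
    exact kill_height Nat.prime_five (by norm_num) nb_five rfl (χ := ψ) (b := 1) h2 (by norm_num)
      (by rw [pow_one]; exact h1) (by rw [card_co2]; norm_num)
  · exact kill_height Nat.prime_five (by norm_num) nb_five hγ (b := 1) (by norm_num) (by norm_num) (by norm_num)
      (by rw [card_co2]; norm_num)
  · exact kill_height Nat.prime_five (by norm_num) nb_five hγ (b := 1) (by norm_num) (by norm_num) (by norm_num)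
      (by rw [card_co2]; norm_num)

theorem nb_eleven : NB 11 1 Spor.Co2 := by
  have := finite_co2'
  have : Fact (Nat.Prime 11) := ⟨by norm_num⟩
  refine NB.of_orders (q := 11) (a := 1) (by rw [card_co2]; norm_num) fun y hy h11 hd => ?_
  rw [show 1 + 1 - 1 = 1 by norm_num] at hd
  rcases primes hy (orderOf_dvd_natCard y) with h | h | h | h | h | h
  · exact co2_2_11 y h hd
  · exact cb_symm Nat.prime_three (by norm_num) co2_11_3 y h hd
  · exact co2_p5 p5 p11 (by norm_num) y h hd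
  · exact co2_p5 p7 p11 (by norm_num) y h hd
  · exact h11 h
  · exact co2_p5 p23 p11 (by norm_num) y h hd

theorem count_7_11 : ¬ Same 7 11 Spor.Co2 := by
  have := finite_co2'
  obtain ⟨α, β, γ, δ, hα, hβ, hγ, hδ⟩ := chars
  intro hS
  refine kill_exact (p := 7) (q := 11) (by norm_num) (by norm_num) (by norm_num) (by norm_num)
    (by rw [card_co2]; norm_num) (by rw [card_co2]; norm_num) (by rw [card_co2]; norm_num)
    (by rw [card_co2]; norm_num) (χ := α) (d := 23) hα ?_ (by decide) hS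
  have hB : B0 7 Spor.Co2 = B0 11 Spor.Co2 := hS
  rw [hB]
  exact mem_nb (by norm_num) nb_eleven hα (by norm_num)

theorem count_7_23 : ¬ Same 7 23 Spor.Co2 := by
  have := finite_co2'
  exact H894.PQ.kill_count (by norm_num) (by norm_num) (by norm_num) (by norm_num) (by rw [card_co2]; norm_num)
    (by rw [card_co2]; norm_num) (by rw [card_co2]; norm_num) (by rw [card_co2]; norm_num) (by decide)

theorem count_11_23 : ¬ Same 11 23 Spor.Co2 := by
  have := finite_co2'
  exact H894.PQ.kill_count (by norm_num) (by norm_num) (by norm_num) (by norm_num) (by rw [card_co2]; norm_num)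
    (by rw [card_co2]; norm_num) (by rw [card_co2]; norm_num) (by rw [card_co2]; norm_num) (by decide)

/-- **The row `Co2`.** -/
theorem row_co2 {S : Type u} [Group S] (h : Cfsg.Spor.IsoCo2 S) : Row S := by
  obtain ⟨e⟩ := h
  refine H766.PQ.Row.of_equiv e.symm ?_
  have := finite_co2'
  refine Row.of_lt fun p q hp hq hpq hpd hqd hS => ?_
  rcases primes hp hpd with rfl | rfl | rfl | rfl | rfl | rfl <;>
    rcases primes hq hqd with rfl | rfl | rfl | rfl | rfl | rfl <;>
    first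
      | exact absurd hpq (by decide)
      | exact two_kill (by decide) hS
      | exact three_kill (by decide) hS
      | exact five_kill (by decide) hS
      | exact count_7_11 hS
      | exact count_7_23 hS
      | exact count_11_23 hS

end Co2

end Cfsg.Agent.H488.PQ
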