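import Cfsg.Agent.H488.PQ.FiTFLoc
import Cfsg.Agent.H101.PQ.FiTFChar
import Cfsg.Agent.Characters.GaloisBasic

/-!
# S4612: `Fi₂₄'`, the pair (5, 11) (helper488)
-/

set_option autoImplicit false

open Cfsg Cfsg.Agent

namespace Cfsg.Agent.H488.PQ.FiTFEnd

open Cfsg.Agent.H317.PQ Cfsg.Agent.Blocks.Basic
open Cfsg.Agent.H30.FiE (tp X)
open Cfsg.Spor (Fi24)

theorem not_same_5_11 : ¬ Same 5 11 Spor.Fi24' := by
  have : Finite Fi24 := Cfsg.Agent.R08.FiTwentyFour.finite_Fi24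
  obtain ⟨χ, hd, hs, hr⟩ := Cfsg.Agent.H101.PQ.FiTFChar.exists_b
  have hi : ∀ g, ∃ k : ℤ, (χ : Fi24 → ℂ) g = k := fun g =>
    Cfsg.Agent.Characters.GaloisBasic.exists_int_of_rat (Cfsg.Agent.Characters.Core.isIrr_isCharacter χ.2) g (hr g)
  choose F hF using hi
  have hcl : ∀ g h : Fi24, F (h * g * h⁻¹) = F g := by
    intro g h
    have e : (χ : Fi24 → ℂ) (h * g * h⁻¹) = (χ : Fi24 → ℂ) g := by
      rw [Cfsg.Agent.H739.PQ.irr_conj]
    rw [hF, hF] at e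
    exact_mod_cast e
  have hω : ∀ g, ∑ p ∈ X.PT, F (tp p * g) = 3132 * F g := by
    intro g
    have e := hs g
    simp only [hF] at e
    exact_mod_cast e
  exact FiTF.five_eleven χ hF hd (FiTF.loc_of_sum hcl hω ⟨285, by norm_num⟩)

end Cfsg.Agent.H488.PQ.FiTFEnd
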