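import Cfsg.Agent.H488.PQ.FiTF
import Cfsg.Agent.H30.FiE.Ctx
import Cfsg.Agent.H706.Ortho

/-!
# S4612: `Fi₂₄'`, the pair (5, 11), the local condition from the class sum of the transpositions (helper488)
-/

set_option autoImplicit false
set_option maxRecDepth 20000

open Cfsg Cfsg.Agent

namespace Cfsg.Agent.H488.PQ.FiTF

open Subgroup
open Cfsg.Agent.H843 Cfsg.Agent.H843.D11 Cfsg.Agent.H843.Ore.R11
open Cfsg.Agent.Fischer Cfsg.Agent.Fischer.Fi24RepDef Cfsg.Agent.Fischer.Fi24Rep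
open Cfsg.Agent.R08.FiTwentyFour (L finite_Fi24)
open Cfsg.Agent.KFacts.FiTF.Pts
open Cfsg.Spor (Fi24)
open Cfsg.Spor.Fi24 (Gen)
open Cfsg.Agent.H30.FiE (tp isPt_tp tp_act tp_mem tp_eq isPt_iff X)

theorem mem_PT {p : ℕ} : p ∈ X.PT ↔ Fi24RepOrb.UG.testBit p = true := by
  show p ∈ Lib.PermNetOrbit.bits (2 ^ 19) Fi24RepOrb.UG ↔ _
  rw [Lib.PermNetOrbit.mem_bits]
  exact ⟨fun h => h.2, fun h => ⟨H30.FiE.lt_of_bit h, h⟩⟩

theorem mem_PT_of {d : Fi24} {p : ℕ} (h : IsPt d p) : p ∈ X.PT := mem_PT.2 (isPt_iff.2 ⟨d, h⟩)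

theorem fix_iff {p : ℕ} (hp : p ∈ X.PT) : rho D.x p = p ↔ p = 176 ∨ p = 186102 ∨ p = 186073 := by
  have hb := mem_PT.1 hp
  constructor
  · intro h
    have h1 : D.x * tp p = tp p * D.x := ((isPt_tp hb).comm_iff _).2 h
    have h2 : tp p ∈ L ∩ (centralizer ((zpowers D.x : Subgroup Fi24) : Set Fi24) : Set Fi24) :=
      ⟨tp_mem hb, Cyc.mem_centralizer_zpowers.2 h1.symm⟩
    rw [inter] at h2
    rcases h2 with h2 | h2 | h2
    · exact Or.inl ((isPt_tp hb).uniq (by rw [h2]; exact t1))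
    · exact Or.inr (Or.inl ((isPt_tp hb).uniq (by rw [h2]; exact t2)))
    · exact Or.inr (Or.inr ((isPt_tp hb).uniq (by rw [h2]; exact t3)))
  · rintro (rfl | rfl | rfl)
    · exact (t1.comm_iff _).1 cx1.eq
    · exact (t2.comm_iff _).1 cx2.eq
    · exact (t3.comm_iff _).1 cx3.eq

theorem loc_of_sum {F : Fi24 → ℤ} (hcl : ∀ g h : Fi24, F (h * g * h⁻¹) = F g) {ω : ℤ}
    (hω : ∀ g, ∑ p ∈ X.PT, F (tp p * g) = ω * F g) (h11 : (11 : ℤ) ∣ ω + 3) : Loc F := by
  classical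
  intro y hy
  have hp : Fact (Nat.Prime 11) := ⟨by norm_num⟩
  let Ω := {p : ℕ // p ∈ X.PT}
  letI : MulAction (zpowers D.x) Ω :=
    { smul := fun g p => ⟨rho g p.1, X.mem g p.2⟩
      one_smul := fun p => Subtype.ext (by
        show rho ((1 : zpowers D.x) : Fi24) p.1 = p.1
        rw [OneMemClass.coe_one, map_one]; rfl)
      mul_smul := fun g h p => Subtype.ext (by
        show rho ((g * h : zpowers D.x) : Fi24) p.1 = rho g (rho h p.1)
        rw [Subgroup.coe_mul, map_mul]; rfl) }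
  have hP : IsPGroup 11 (zpowers D.x) := IsPGroup.of_card (n := 1) (by rw [Nat.card_zpowers, order, pow_one])
  have hcm : ∀ g ∈ zpowers D.x, g * y = y * g := fun g hg => by
    obtain ⟨k, rfl⟩ := mem_zpowers_iff.1 hg
    exact (hy.zpow_left k).eq
  have key := H706.Ortho.sum_fixed_zmod hP (fun p : Ω => ((F (tp p.1 * y) : ℤ) : ZMod 11)) (by
    intro g p
    show ((F (tp (rho g p.1) * y) : ℤ) : ZMod 11) = ((F (tp p.1 * y) : ℤ) : ZMod 11)
    have h1 : tp (rho g p.1) * y = (g : Fi24) * (tp p.1 * y) * (g : Fi24)⁻¹ := by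
      rw [tp_act _ (mem_PT.1 p.2)]
      calc (g : Fi24) * tp p.1 * (g : Fi24)⁻¹ * y = (g : Fi24) * tp p.1 * ((g : Fi24)⁻¹ * (y * g)) * (g : Fi24)⁻¹ := by group
        _ = (g : Fi24) * tp p.1 * ((g : Fi24)⁻¹ * (g * y)) * (g : Fi24)⁻¹ := by rw [hcm _ g.2]
        _ = _ := by group
    rw [h1, hcl])
  have hfix : Finset.univ.filter (fun p : Ω => p ∈ MulAction.fixedPoints (zpowers D.x) Ω) =
      {(⟨176, mem_PT_of t1⟩ : Ω), ⟨186102, mem_PT_of t2⟩, ⟨186073, mem_PT_of t3⟩} := by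
    ext p
    simp only [Finset.mem_filter, Finset.mem_univ, true_and, Finset.mem_insert, Finset.mem_singleton]
    constructor
    · intro h
      have h1 : rho D.x p.1 = p.1 := congrArg Subtype.val (h ⟨D.x, mem_zpowers _⟩)
      rcases (fix_iff p.2).1 h1 with h2 | h2 | h2
      · exact Or.inl (Subtype.ext h2)
      · exact Or.inr (Or.inl (Subtype.ext h2))
      · exact Or.inr (Or.inr (Subtype.ext h2))
    · intro h
      have h1 : rho D.x p.1 = p.1 := (fix_iff p.2).2 (by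
        rcases h with h | h | h
        · exact Or.inl (congrArg Subtype.val h)
        · exact Or.inr (Or.inl (congrArg Subtype.val h))
        · exact Or.inr (Or.inr (congrArg Subtype.val h)))
      intro g
      obtain ⟨k, hk⟩ := mem_zpowers_iff.1 g.2
      have h2 : rho (g : Fi24) p.1 = p.1 := by
        have h3 := (isPt_tp (mem_PT.1 p.2)).comm_iff D.x
        have h4 : Commute D.x (tp p.1) := h3.2 h1
        rw [← hk]
        exact ((isPt_tp (mem_PT.1 p.2)).comm_iff _).1 (h4.zpow_left k).eq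
      exact Subtype.ext h2
  have hfix' : ∑ ω ∈ Finset.univ.filter (· ∈ MulAction.fixedPoints (zpowers D.x) Ω), ((F (tp ω.1 * y) : ℤ) : ZMod 11) =
      ((F (s1 * y) + F (s2 * y) + F (s3 * y) : ℤ) : ZMod 11) := by
    rw [hfix, Finset.sum_insert, Finset.sum_insert, Finset.sum_singleton]
    · rw [tp_eq t1, tp_eq t2, tp_eq t3]
      push_cast
      show _ = ((F (Fi24Rep.gen .i * y) : ℤ) : ZMod 11) + ((F (word d2w * y) : ℤ) : ZMod 11) +
        ((F (word d3w * y) : ℤ) : ZMod 11)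
      ring
    · rw [Finset.mem_singleton]
      intro h
      exact absurd (congrArg Subtype.val h) (by norm_num)
    · rw [Finset.mem_insert, Finset.mem_singleton]
      rintro (h | h) <;> exact absurd (congrArg Subtype.val h) (by norm_num)
  have hall : ∑ p : Ω, ((F (tp p.1 * y) : ℤ) : ZMod 11) = ((ω * F y : ℤ) : ZMod 11) := by
    rw [← hω y, Int.cast_sum]
    exact Finset.sum_coe_sort X.PT (fun p => ((F (tp p * y) : ℤ) : ZMod 11))
  rw [hall, hfix'] at key
  have h5 := (ZMod.intCast_eq_intCast_iff_dvd_sub _ _ 11).1 key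
  obtain ⟨k, hk⟩ := h11
  obtain ⟨l, hl⟩ := h5
  refine ⟨l + k * F y, ?_⟩
  push_cast at hl
  linear_combination hl + F y * hk

end Cfsg.Agent.H488.PQ.FiTF
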